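import Mathlib

/-! Residue fields of schemes locally of finite type over a field embed in big algebraically closed fields. -/

set_option autoImplicit false
set_option backward.isDefEq.respectTransparency false
set_option backward.isDefEq.respectTransparency.types false

universe u

set_option synthInstance.maxHeartbeats 400000
set_option maxHeartbeats 800000

open CategoryTheory AlgebraicGeometry

namespace Groth.Agent.FieldPts

theorem exists_algHom {K L Ω : Type u} [Field K] [Field L] [Field Ω] [Algebra K L] [Algebra K Ω] [IsAlgClosed Ω]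
    [Algebra.EssFiniteType K L] (t : ℕ → Ω) (ht : AlgebraicIndependent K t) : Nonempty (L →ₐ[K] Ω) := by
  obtain ⟨s, hs⟩ := (Algebra.essFiniteType_iff (R := K) (S := L)).mp inferInstance
  let A0 := Algebra.adjoin K (s : Set L)
  haveI : Algebra.IsAlgebraic A0 L := ⟨fun x => by
    obtain ⟨d, hd, hdu, hdx⟩ := hs x
    refine ⟨Polynomial.C ⟨d, hd⟩ * Polynomial.X - Polynomial.C ⟨x * d, hdx⟩, fun h => ?_, ?_⟩
    · have := congrArg (fun p => Polynomial.coeff p 1) h
      simp only [Polynomial.coeff_sub, Polynomial.coeff_C_mul, Polynomial.coeff_X_one, mul_one,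
        Polynomial.coeff_C_succ, sub_zero, Polynomial.coeff_zero] at this
      exact hdu.ne_zero (congrArg Subtype.val this)
    · simp only [map_sub, map_mul, Polynomial.aeval_C, Polynomial.aeval_X]
      show (d : L) * x - x * d = 0
      ring⟩
  obtain ⟨T, hTs, hT⟩ := exists_isTranscendenceBasis_subset (R := K) (s : Set L)
  haveI : Finite T := Set.Finite.to_subtype (s.finite_toSet.subset hTs)
  obtain ⟨j⟩ : Nonempty (T ↪ ℕ) := ⟨(Finite.equivFin T).toEmbedding.trans ⟨Fin.val, Fin.val_injective⟩⟩
  have hv : AlgebraicIndependent K (fun i : T => t (j i)) := ht.comp j j.injective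
  let e := hT.1.aevalEquivField
  let φ : FractionRing (MvPolynomial T K) →ₐ[K] Ω := IsFractionRing.liftAlgHom hv
  let ψ := φ.comp e.symm.toAlgHom
  haveI : Algebra.IsAlgebraic (IntermediateField.adjoin K (Set.range ((↑) : T → L))) L := hT.isAlgebraic_field
  letI := ψ.toRingHom.toAlgebra
  haveI : IsScalarTower K (IntermediateField.adjoin K (Set.range ((↑) : T → L))) Ω :=
    IsScalarTower.of_algebraMap_eq fun x => (ψ.commutes x).symm
  exact ⟨(IsAlgClosed.lift (M := Ω) (R := IntermediateField.adjoin K (Set.range ((↑) : T → L))) (S := L)).restrictScalars K⟩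

theorem exists_point {K Ω : Type u} [Field K] [Field Ω] [IsAlgClosed Ω] [Algebra K Ω]
    (t : ℕ → Ω) (ht : AlgebraicIndependent K t) {Y : Scheme.{u}} (p : Y ⟶ Spec (CommRingCat.of K))
    [LocallyOfFiniteType p] (y : Y) :
    ∃ a : Spec (CommRingCat.of Ω) ⟶ Y, a ≫ p = Spec.map (CommRingCat.ofHom (algebraMap K Ω)) ∧
      ∀ z, a z = y := by
  obtain ⟨U, hU, hy, -⟩ := exists_isAffineOpen_mem_and_subset (x := y) (U := ⊤) trivial
  let φA : CommRingCat.of K ⟶ Γ(Y, U) :=
    (Scheme.ΓSpecIso _).inv ≫ p.appLE ⊤ U le_top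
  let φ : CommRingCat.of K ⟶ Y.residueField y := φA ≫ Y.evaluation U y hy
  have hφ : Spec.map φ = Y.fromSpecResidueField y ≫ p := by
    have h1 : Spec.map φA = hU.fromSpec ≫ p := by
      rw [← IsAffineOpen.SpecMap_appLE_fromSpec p (isAffineOpen_top _) hU le_top, Spec.map_comp]
      simp [IsAffineOpen.fromSpec_top, Scheme.isoSpec_Spec_inv]
    rw [Scheme.fromSpecResidueField, ← hU.fromSpecStalk_eq_fromSpecStalk hy, IsAffineOpen.fromSpecStalk,
      Category.assoc, Category.assoc, ← h1, ← Spec.map_comp, ← Spec.map_comp, Category.assoc]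
    rfl
  have hft : φA.hom.FiniteType := RingHom.FiniteType.comp
    (LocallyOfFiniteType.finiteType_appLE p (isAffineOpen_top _) hU le_top)
    (RingHom.FiniteType.of_surjective _ (ConcreteCategory.bijective_of_isIso (Scheme.ΓSpecIso _).inv).2)
  letI : Algebra K Γ(Y, U) := φA.hom.toAlgebra
  haveI : Algebra.FiniteType K Γ(Y, U) := hft
  letI : Algebra Γ(Y, U) (Y.residueField y) := (Y.evaluation U y hy).hom.toAlgebra
  letI : Algebra K (Y.residueField y) := φ.hom.toAlgebra
  haveI : IsScalarTower K Γ(Y, U) (Y.residueField y) := .of_algebraMap_eq fun _ => rfl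
  haveI : Algebra.EssFiniteType Γ(Y, U) (Y.residueField y) := by
    letI := TopCat.Presheaf.algebra_section_stalk Y.presheaf (U := U) ⟨y, hy⟩
    haveI := hU.isLocalization_stalk ⟨y, hy⟩
    letI : Algebra (Y.presheaf.stalk y) (Y.residueField y) := (Y.residue y).hom.toAlgebra
    haveI : IsScalarTower Γ(Y, U) (Y.presheaf.stalk y) (Y.residueField y) := .of_algebraMap_eq fun _ => rfl
    haveI : Algebra.EssFiniteType Γ(Y, U) (Y.presheaf.stalk y) :=
      Algebra.EssFiniteType.of_isLocalization _ (hU.primeIdealOf ⟨y, hy⟩).asIdeal.primeCompl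
    haveI : Algebra.FiniteType (Y.presheaf.stalk y) (Y.residueField y) :=
      RingHom.FiniteType.of_surjective (Y.residue y).hom (Y.residue_surjective y)
    exact Algebra.EssFiniteType.comp _ (Y.presheaf.stalk y) _
  haveI : Algebra.EssFiniteType K (Y.residueField y) := Algebra.EssFiniteType.comp K Γ(Y, U) _
  obtain ⟨ψ⟩ := exists_algHom (L := Y.residueField y) t ht
  refine ⟨Spec.map (CommRingCat.ofHom ψ.toRingHom) ≫ Y.fromSpecResidueField y, ?_, fun z => ?_⟩
  · rw [Category.assoc, ← hφ, ← Spec.map_comp]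
    congr 1
    ext k
    exact ψ.commutes k
  · rw [Scheme.Hom.comp_apply]
    exact Scheme.fromSpecResidueField_apply _ _

end Groth.Agent.FieldPts
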